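import Groth.Agent.Lib.Hensel.Reduced
import Mathlib.AlgebraicGeometry.Morphisms.Smooth
import Mathlib.AlgebraicGeometry.Morphisms.Flat
import Mathlib.RingTheory.RingHom.StandardSmooth
import Mathlib.RingTheory.Smooth.StandardSmoothOfFree

/-!
# Reducedness and smooth morphisms
-/

set_option autoImplicit false

universe u

open CategoryTheory Limits AlgebraicGeometry TopologicalSpace

namespace GrothLib.RedSmooth

theorem isReduced_of_isStandardSmooth {R S : Type u} [CommRing R] [CommRing S] [_root_.IsReduced R]
    {f : R →+* S} (hf : f.IsStandardSmooth) : _root_.IsReduced S := by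
  obtain ⟨n, g, -, hg⟩ := hf.exists_etale_mvPolynomial
  let := g.toAlgebra
  have : Algebra.Etale (MvPolynomial (Fin n) R) S := hg
  exact GrothLib.Hensel.isReduced_of_etale (MvPolynomial (Fin n) R) S

theorem isReduced_of_smooth {X Y : Scheme.{u}} (f : X ⟶ Y) [Smooth f] [IsReduced Y] :
    IsReduced X := by
  choose U hU V hV hx e he using Smooth.exists_isStandardSmooth f
  have : ∀ x, _root_.IsReduced (X.presheaf.stalk x) := fun x ↦ by
    have : _root_.IsReduced Γ(X, V x) := isReduced_of_isStandardSmooth (he x)
    letI := TopCat.Presheaf.algebra_section_stalk X.presheaf ⟨x, hx x⟩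
    haveI := (hV x).isLocalization_stalk ⟨x, hx x⟩
    exact isReduced_localizationPreserves ((hV x).primeIdealOf ⟨x, hx x⟩).asIdeal.primeCompl _
      inferInstance
  exact isReduced_of_isReduced_stalk X

theorem isReduced_of_flat_surjective_family {ι : Type*} {S : Scheme.{u}} {X : ι → Scheme.{u}}
    (f : ∀ i, X i ⟶ S) (hflat : ∀ i, Flat (f i)) (hsurj : ∀ s, ∃ i x, f i x = s)
    (hred : ∀ i, IsReduced (X i)) : IsReduced S := by
  have : ∀ s, _root_.IsReduced (S.presheaf.stalk s) := fun s ↦ by
    obtain ⟨i, x, rfl⟩ := hsurj s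
    have := hflat i
    have := hred i
    algebraize [((f i).stalkMap x).hom]
    have : Module.FaithfullyFlat (S.presheaf.stalk (f i x)) ((X i).presheaf.stalk x) :=
      @Module.FaithfullyFlat.of_flat_of_isLocalHom _ _ _ _ _ _ _
        (Flat.stalkMap (f i) x) ((f i).toLRSHom.prop x)
    exact isReduced_of_injective ((f i).stalkMap x).hom
      (FaithfulSMul.algebraMap_injective (S.presheaf.stalk (f i x)) ((X i).presheaf.stalk x))
  exact isReduced_of_isReduced_stalk S

end GrothLib.RedSmooth

namespace GrothLib.RedSmooth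

/-- An algebra smooth over a reduced ring is reduced. -/
theorem isReduced_of_algebra_smooth (R S : Type u) [CommRing R] [CommRing S] [Algebra R S]
    [Algebra.Smooth R S] [_root_.IsReduced R] : _root_.IsReduced S := by
  obtain ⟨s, hs, h⟩ := Algebra.Smooth.exists_span_eq_top_isStandardSmooth (R := R) (S := S)
  refine ⟨fun x hx ↦ ?_⟩
  have hle : Ideal.span s ≤ Ideal.radical ((LinearMap.toSpanSingleton S S x).ker : Ideal S) := by
    refine Ideal.span_le.2 fun g hg ↦ ?_
    have := h g hg
    have : _root_.IsReduced (Localization.Away g) :=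
      isReduced_of_isStandardSmooth (f := algebraMap R (Localization.Away g))
        (RingHom.isStandardSmooth_algebraMap.2 this)
    have h0 : algebraMap S (Localization.Away g) x = 0 := (hx.map _).eq_zero
    obtain ⟨⟨_, n, rfl⟩, hn⟩ := (IsLocalization.map_eq_zero_iff (Submonoid.powers g) _ x).1 h0
    exact ⟨n, by simpa using hn⟩
  rw [hs, top_le_iff, Ideal.radical_eq_top, Ideal.eq_top_iff_one] at hle
  simpa using hle

end GrothLib.RedSmooth
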